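import Groth.Prelude.Def_GLin
import Groth.Prelude.Def_HopfRep
import Mathlib

/-!
Diagonal actions of the multiplicative group on affine space.
-/

universe u

open TensorProduct LaurentPolynomial

namespace Groth.Agent.GmAct99

variable {k : Type u} [Field k] {ι : Type u} [Fintype ι]
  [HopfRep.Comod k k[T;T⁻¹] (MvPolynomial ι k)] [GLin.IsCoactAlg k k[T;T⁻¹] (MvPolynomial ι k)]

noncomputable def weight (r : ι → ℤ) (m : ι →₀ ℕ) : ℤ := ∑ i, (m i : ℤ) * r i

variable {r : ι → ℤ}
  (hr : ∀ i : ι, HopfRep.Comod.coact (k := k) (A := k[T;T⁻¹]) (MvPolynomial.X i : MvPolynomial ι k) =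
      (MvPolynomial.X i : MvPolynomial ι k) ⊗ₜ[k] (T (r i) : k[T;T⁻¹]))

include hr

theorem coact_monomial (m : ι →₀ ℕ) (c : k) :
    HopfRep.Comod.coact (k := k) (A := k[T;T⁻¹]) (MvPolynomial.monomial m c : MvPolynomial ι k) =
      (MvPolynomial.monomial m c) ⊗ₜ[k] (T (weight r m) : k[T;T⁻¹]) := by
  classical
  let φ := GLin.coactAlgHom k k[T;T⁻¹] (MvPolynomial ι k)
  have hX : ∀ i, φ (MvPolynomial.X i) = (MvPolynomial.X i : MvPolynomial ι k) ⊗ₜ[k] (T (r i) : k[T;T⁻¹]) :=
    fun i => hr i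
  have hp : ∀ s : Finset ι, φ (∏ i ∈ s, MvPolynomial.X i ^ m i) =
      (∏ i ∈ s, MvPolynomial.X i ^ m i) ⊗ₜ[k] (T (∑ i ∈ s, (m i : ℤ) * r i) : k[T;T⁻¹]) := by
    intro s
    induction s using Finset.induction_on with
    | empty => simp [Algebra.TensorProduct.one_def]
    | insert a s ha ih =>
      rw [Finset.prod_insert ha, Finset.sum_insert ha, map_mul, map_pow, hX, ih,
        Algebra.TensorProduct.tmul_pow, Algebra.TensorProduct.tmul_mul_tmul, T_pow, ← T_add]
  have hm : (MvPolynomial.monomial m c : MvPolynomial ι k) = c • ∏ i, MvPolynomial.X i ^ m i := by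
    rw [MvPolynomial.monomial_eq, Finsupp.prod_fintype _ _ (fun i => pow_zero _), MvPolynomial.smul_eq_C_mul]
  rw [hm, map_smul, ← GLin.coactAlgHom_apply, hp, TensorProduct.smul_tmul']
  rfl

theorem monomial_mem_invariants {m : ι →₀ ℕ} (h : weight r m = 0) (c : k) :
    (MvPolynomial.monomial m c : MvPolynomial ι k) ∈ GLin.invariants k k[T;T⁻¹] (MvPolynomial ι k) := by
  rw [GLin.mem_invariants_iff, coact_monomial hr, h, T_zero]

theorem weight_eq_zero_of_mem_invariants {F : MvPolynomial ι k}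
    (hF : F ∈ GLin.invariants k k[T;T⁻¹] (MvPolynomial ι k)) {m : ι →₀ ℕ} (hm : F.coeff m ≠ 0) :
    weight r m = 0 := by
  classical
  by_contra hw
  let ψ : MvPolynomial ι k ⊗[k] k[T;T⁻¹] →ₗ[k] MvPolynomial ι k :=
    TensorProduct.lift (LinearMap.mk₂ k (fun f l => (l.coeff (weight r m)) • f)
      (fun a b l => smul_add _ a b) (fun c a l => smul_comm _ c a)
      (fun a l l' => by simp [add_smul]) (fun c a l => by simp [mul_smul]))
  rw [GLin.mem_invariants_iff] at hF
  have h := congrArg (fun z => MvPolynomial.coeff m (ψ z)) hF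
  have hR : ψ (F ⊗ₜ[k] (1 : k[T;T⁻¹])) = 0 := by
    change ((1 : k[T;T⁻¹]).coeff (weight r m)) • F = 0
    rw [← T_zero, T, AddMonoidAlgebra.coeff_single, Finsupp.single_eq_of_ne hw, zero_smul]
  rw [hR, MvPolynomial.coeff_zero] at h
  apply hm
  rw [← h]
  conv_rhs => rw [F.as_sum]
  rw [map_sum, map_sum, MvPolynomial.coeff_sum, Finset.sum_eq_single m]
  · rw [coact_monomial hr]
    change _ = MvPolynomial.coeff m (((T (weight r m) : k[T;T⁻¹]).coeff (weight r m)) • _)
    rw [T, AddMonoidAlgebra.coeff_single, Finsupp.single_eq_same, one_smul, MvPolynomial.coeff_monomial,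
      if_pos rfl]
  · intro m' _ hne
    rw [coact_monomial hr]
    change MvPolynomial.coeff m (((T (weight r m') : k[T;T⁻¹]).coeff (weight r m)) • _) = 0
    rw [MvPolynomial.coeff_smul, MvPolynomial.coeff_monomial, if_neg hne, smul_zero]
  · intro h'
    rw [MvPolynomial.notMem_support_iff.1 h']
    simp

theorem orbitHom_X (v : ι → k) (i : ι) :
    GLin.orbitHom k k[T;T⁻¹] (GLin.vecPt k ι v) (MvPolynomial.X i) = C (v i) * T (r i) := by
  simp only [GLin.orbitHom, AlgHom.comp_apply, GLin.coactAlgHom_apply, hr,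
    Algebra.TensorProduct.map_tmul, MvPolynomial.aeval_X, AlgHom.id_apply]
  change Algebra.TensorProduct.lid k _ (v i ⊗ₜ[k] (T (r i) : k[T;T⁻¹])) = _
  rw [Algebra.TensorProduct.lid_tmul, Algebra.smul_def, LaurentPolynomial.algebraMap_apply]
  rfl

end Groth.Agent.GmAct99
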